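import Groth.Agent.DimShift.Step
import Mathlib.CategoryTheory.Functor.OfSequence

/-!
# The limit of a sequence of quasi-isomorphisms which is stationary in each degree
-/

set_option autoImplicit false
set_option backward.isDefEq.respectTransparency false
set_option backward.isDefEq.respectTransparency.types false

universe v u

open CategoryTheory Limits HomologicalComplex

namespace Groth.Agent.DimShift

variable {A : Type u} [Category.{v} A] [Abelian A] (S : ℕ → CochainComplex A ℤ)
  (s : ∀ j, S j ⟶ S (j + 1)) (J : ℤ → ℕ)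

/-- The composite transition map. -/
noncomputable def tr {j M : ℕ} (h : j ≤ M) : S j ⟶ S M :=
  (Functor.ofSequence s).map (homOfLE h)

@[reassoc]
theorem tr_comp {j k M : ℕ} (h : j ≤ k) (h' : k ≤ M) : tr S s h ≫ tr S s h' = tr S s (h.trans h') := by
  rw [tr, tr, ← Functor.map_comp]
  rfl

theorem tr_succ (j : ℕ) : tr S s (Nat.le_succ j) = s j :=
  Functor.ofSequence_map_homOfLE_succ s j

theorem tr_refl (j : ℕ) : tr S s (le_refl j) = 𝟙 _ := (Functor.ofSequence s).map_id j

theorem quasiIso_tr [∀ j, QuasiIso (s j)] {j M : ℕ} (h : j ≤ M) : QuasiIso (tr S s h) := by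
  induction M, h using Nat.le_induction with
  | base => rw [tr_refl]; infer_instance
  | succ M h ih =>
    rw [← tr_comp S s h (Nat.le_succ M), tr_succ]
    infer_instance

variable {S} (hs : ∀ (n : ℤ) (j : ℕ), J n ≤ j → IsIso ((s j).f n))

include hs in
theorem isIso_tr (n : ℤ) {j M : ℕ} (hj : J n ≤ j) (h : j ≤ M) : IsIso ((tr S s h).f n) := by
  induction M, h using Nat.le_induction with
  | base => rw [tr_refl, HomologicalComplex.id_f]; infer_instance
  | succ M h ih =>
    haveI := hs n M (hj.trans h)
    rw [← tr_comp S s h (Nat.le_succ M), tr_succ, HomologicalComplex.comp_f]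
    infer_instance

/-- The stable identification. -/
noncomputable def e (n : ℤ) {M : ℕ} (h : J n ≤ M) : (S (J n)).X n ≅ (S M).X n :=
  @asIso _ _ _ _ ((tr S s h).f n) (isIso_tr s J hs n le_rfl h)

theorem e_tr (n : ℤ) {M M' : ℕ} (h : J n ≤ M) (h' : M ≤ M') :
    (e s J hs n h).hom ≫ (tr S s h').f n = (e s J hs n (h.trans h')).hom := by
  change (tr S s h).f n ≫ _ = _
  rw [← HomologicalComplex.comp_f, tr_comp]
  rfl

/-- The differential of the limit. -/
noncomputable def dLim (n m : ℤ) : (S (J n)).X n ⟶ (S (J m)).X m :=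
  (e s J hs n (le_max_left (J n) (J m))).hom ≫ (S (max (J n) (J m))).d n m ≫
    (e s J hs m (le_max_right (J n) (J m))).inv

theorem dLim_eq (n m : ℤ) {M : ℕ} (hn : J n ≤ M) (hm : J m ≤ M) :
    dLim s J hs n m = (e s J hs n hn).hom ≫ (S M).d n m ≫ (e s J hs m hm).inv := by
  have hM : max (J n) (J m) ≤ M := max_le hn hm
  rw [← Category.assoc, Iso.eq_comp_inv, dLim, Category.assoc, Category.assoc,
    ← e_tr s J hs m (le_max_right (J n) (J m)) hM, Iso.inv_hom_id_assoc,
    ← e_tr s J hs n (le_max_left (J n) (J m)) hM, Category.assoc, HomologicalComplex.Hom.comm]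

/-- The limit complex. -/
noncomputable def lim : CochainComplex A ℤ where
  X n := (S (J n)).X n
  d := dLim s J hs
  shape n m h := by
    rw [dLim, (S _).shape n m h]
    simp
  d_comp_d' n m l _ _ := by
    rw [dLim_eq s J hs n m (M := max (max (J n) (J m)) (J l)) (by omega) (by omega),
      dLim_eq s J hs m l (M := max (max (J n) (J m)) (J l)) (by omega) (by omega)]
    simp

/-- The map to the limit. -/
noncomputable def toLim : S 0 ⟶ lim s J hs where
  f n := (tr S s (Nat.zero_le (J n))).f n
  comm' n m _ := by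
    change (tr S s _).f n ≫ dLim s J hs n m = _
    rw [dLim]
    change (tr S s _).f n ≫ (tr S s _).f n ≫ _ ≫ _ = _
    rw [← HomologicalComplex.comp_f_assoc, tr_comp, HomologicalComplex.Hom.comm_assoc]
    congr 1
    rw [Iso.comp_inv_eq]
    change _ = (tr S s _).f m ≫ (tr S s _).f m
    rw [← HomologicalComplex.comp_f, tr_comp]

theorem quasiIso_toLim [∀ j, QuasiIso (s j)] : QuasiIso (toLim s J hs) := by
  refine ⟨fun n => ?_⟩
  rw [quasiIsoAt_iff' _ (n - 1) n (n + 1) (by simp) (by simp)]
  let M := max (max (J (n - 1)) (J n)) (J (n + 1))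
  let φ : (lim s J hs).sc' (n - 1) n (n + 1) ≅ (S M).sc' (n - 1) n (n + 1) :=
    ShortComplex.isoMk (e s J hs (n - 1) (by omega)) (e s J hs n (by omega)) (e s J hs (n + 1) (by omega))
      (by
        change _ = dLim s J hs _ _ ≫ _
        rw [dLim_eq s J hs _ _ (M := M) (by omega) (by omega)]
        simp)
      (by
        change _ = dLim s J hs _ _ ≫ _
        rw [dLim_eq s J hs _ _ (M := M) (by omega) (by omega)]
        simp)
  rw [← ShortComplex.quasiIso_iff_comp_right _ φ.hom]
  have h2 : (shortComplexFunctor' A (ComplexShape.up ℤ) (n - 1) n (n + 1)).map (toLim s J hs) ≫ φ.hom =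
      (shortComplexFunctor' A (ComplexShape.up ℤ) (n - 1) n (n + 1)).map (tr S s (Nat.zero_le M)) := by
    ext
    all_goals
      change (tr S s _).f _ ≫ (tr S s _).f _ = (tr S s _).f _
      rw [← HomologicalComplex.comp_f, tr_comp]
  rw [h2, ← quasiIsoAt_iff' _ (n - 1) n (n + 1) (by simp) (by simp)]
  haveI := quasiIso_tr S s (Nat.zero_le M)
  infer_instance

end Groth.Agent.DimShift
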