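import Groth.Agent.DimShift.Limit
import Mathlib.Data.ENat.Basic

/-!
# Complexes of dimension zero
-/

set_option autoImplicit false
set_option backward.isDefEq.respectTransparency false
set_option backward.isDefEq.respectTransparency.types false

universe v u

open CategoryTheory Limits HomologicalComplex

namespace Groth.Agent.DimShift

variable {A : Type u} [Category.{v} A] [Abelian A]

theorem exists_dim_zero (d : A → ℕ∞) (hiso : ∀ ⦃X Y : A⦄, Nonempty (X ≅ Y) → d X = d Y)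
    (h1 : ∀ X : A, ∃ (Y : A) (ι : X ⟶ Y), Mono ι ∧ d Y = 0)
    (h2 : ∀ X Y : A, d (X ⊞ Y) ≤ max (d X) (d Y))
    (h3 : ∀ S : ShortComplex A, S.ShortExact → d S.X₃ ≤ max (d S.X₁ - 1) (d S.X₂))
    (K : CochainComplex A ℤ)
    (hK : ∀ m : ℤ, ∃ N : ℤ, ∀ n : ℤ, n ≤ N → ∃ k : ℕ, d (K.X n) = k ∧ n + k ≤ m) :
    ∃ (L : CochainComplex A ℤ) (f : K ⟶ L), QuasiIso f ∧ ∀ n, d (L.X n) = 0 := by
  have hemb : ∀ X : A, ∃ (Y : A) (ι : X ⟶ Y), Mono ι ∧ d Y = 0 ∧ (d X = 0 → IsIso ι) := by
    intro X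
    by_cases h : d X = 0
    · exact ⟨X, 𝟙 X, inferInstance, h, fun _ => inferInstance⟩
    · obtain ⟨Y, ι, hι, hY⟩ := h1 X
      exact ⟨Y, ι, hι, hY, fun h' => absurd h' h⟩
  choose Y ι hι hY hYi using hemb
  let nx : CochainComplex A ℤ → CochainComplex A ℤ := fun C => next C (fun n => ι (C.X n))
  let S : ℕ → CochainComplex A ℤ := fun j => nx^[j] K
  have hS : ∀ j, S (j + 1) = nx (S j) := fun j => Function.iterate_succ_apply' nx j K
  let s : ∀ j, S j ⟶ S (j + 1) := fun j => ψ (S j) (fun n => ι ((S j).X n)) ≫ eqToHom (hS j).symm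
  haveI hmono : ∀ j n, Mono (ι ((S j).X n)) := fun j n => hι _
  haveI hqis : ∀ j, QuasiIso (s j) := fun j => by
    haveI := quasiIso_ψ (S j) (fun n => ι ((S j).X n))
    infer_instance
  have hstep : ∀ j n, d ((S (j + 1)).X n) ≤ max (d ((S j).X (n - 1)) - 1) 0 := by
    intro j n
    rw [hS j]
    refine (h3 _ (exact_f_q (S j) (fun n => ι ((S j).X n)) (n - 1) n)).trans (max_le_max le_rfl ?_)
    exact (h2 _ _).trans (by simp [hY])
  have hbound : ∀ (j : ℕ) (n : ℤ) (k : ℕ), d (K.X (n - j)) ≤ k → d ((S j).X n) ≤ ((k - j : ℕ) : ℕ∞) := by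
    intro j
    induction j with
    | zero =>
      intro n k hk
      simp only [Nat.cast_zero, sub_zero] at hk
      simpa [S] using hk
    | succ j ih =>
      intro n k hk
      refine (hstep j n).trans (max_le ?_ zero_le)
      have h4 := ih (n - 1) k (by
        have e : n - 1 - (j : ℤ) = n - ((j + 1 : ℕ) : ℤ) := by omega
        rw [e]; exact hk)
      refine (tsub_le_tsub_right h4 1).trans ?_
      rw [← Nat.cast_one, ← ENat.coe_sub]
      exact_mod_cast le_of_eq (by omega)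
  have hzero : ∀ n : ℤ, ∃ J : ℕ, ∀ j, J ≤ j → d ((S j).X n) = 0 ∧ d ((S j).X (n - 1)) = 0 := by
    intro n
    obtain ⟨N, hN⟩ := hK (n - 1)
    refine ⟨(n - N).toNat, fun j hj => ⟨?_, ?_⟩⟩
    · obtain ⟨k, hk, hk'⟩ := hN (n - j) (by omega)
      have := hbound j n k hk.le
      rwa [show k - j = 0 by omega, Nat.cast_zero, le_zero_iff] at this
    · obtain ⟨k, hk, hk'⟩ := hN (n - 1 - j) (by omega)
      have := hbound j (n - 1) k hk.le
      rwa [show k - j = 0 by omega, Nat.cast_zero, le_zero_iff] at this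
  choose J hJ using hzero
  have hs : ∀ (n : ℤ) (j : ℕ), J n ≤ j → IsIso ((s j).f n) := by
    intro n j hj
    haveI := hYi _ (hJ n j hj).1
    haveI := hYi _ (hJ n j hj).2
    haveI := isIso_ψ_f (S j) (fun n => ι ((S j).X n)) n
    haveI : IsIso ((eqToHom (hS j).symm).f n) :=
      inferInstanceAs (IsIso ((HomologicalComplex.eval A (ComplexShape.up ℤ) n).map (eqToHom (hS j).symm)))
    rw [HomologicalComplex.comp_f]
    infer_instance
  exact ⟨lim s J hs, toLim s J hs, quasiIso_toLim s J hs, fun n => (hJ n (J n) le_rfl).1⟩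

end Groth.Agent.DimShift
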