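import Groth.Agent.TotalQis.Basic

/-!
# One step of the pushout construction lowering dimensions
-/

set_option autoImplicit false
set_option backward.isDefEq.respectTransparency false
set_option backward.isDefEq.respectTransparency.types false

universe v u

open CategoryTheory Limits HomologicalComplex

namespace Groth.Agent.DimShift

variable {A : Type u} [Category.{v} A] [Abelian A] (K : CochainComplex A ℤ)
  {Y : ℤ → A} (i : ∀ n, K.X n ⟶ Y n)

/-- The map along which we push out. -/
noncomputable def f (a b : ℤ) : K.X a ⟶ Y a ⊞ Y b := biprod.lift (i a) (-(K.d a b ≫ i b))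

noncomputable def C (a b : ℤ) : A := cokernel (f K i a b)

noncomputable def q (a b : ℤ) : Y a ⊞ Y b ⟶ C K i a b := cokernel.π _

@[reassoc]
theorem f_q (a b : ℤ) : f K i a b ≫ q K i a b = 0 := cokernel.condition _

noncomputable def g (a b c : ℤ) : C K i a b ⟶ C K i b c :=
  cokernel.desc _ (biprod.snd ≫ biprod.inl ≫ q K i b c) (by
    have h : f K i a b ≫ biprod.snd ≫ biprod.inl = -(K.d a b ≫ f K i b c) := by
      simp only [f, biprod.lift_snd_assoc]
      apply biprod.hom_ext <;> simp
    rw [reassoc_of% h, Preadditive.neg_comp, Category.assoc, f_q, comp_zero, neg_zero])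

@[reassoc]
theorem q_g (a b c : ℤ) : q K i a b ≫ g K i a b c = biprod.snd ≫ biprod.inl ≫ q K i b c :=
  cokernel.π_desc _ _ _

instance (a b : ℤ) : Epi (q K i a b) := inferInstanceAs (Epi (cokernel.π _))

@[reassoc]
theorem g_g (a b c e : ℤ) : g K i a b c ≫ g K i b c e = 0 := by
  rw [← cancel_epi (q K i a b), q_g_assoc, q_g]
  simp

/-- The differential with the reindexing. -/
noncomputable def d' (n m : ℤ) : C K i (n - 1) n ⟶ C K i (m - 1) m :=
  if h : n + 1 = m then g K i (n - 1) n m ≫ eqToHom (by rw [show m - 1 = n by omega]) else 0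

theorem eqToHom_g {b b' c e : ℤ} (h : b = b') :
    eqToHom (show C K i b c = C K i b' c by rw [h]) ≫ g K i b' c e = g K i b c e := by
  subst h
  simp

/-- The new complex. -/
noncomputable def next : CochainComplex A ℤ where
  X n := C K i (n - 1) n
  d := d' K i
  shape n m h := dif_neg h
  d_comp_d' n m l (h : n + 1 = m) (h' : m + 1 = l) := by
    simp only [d', dif_pos h, dif_pos h', Category.assoc]
    rw [reassoc_of% eqToHom_g K i (show n = m - 1 by omega), g_g_assoc, zero_comp]

theorem next_d (n m : ℤ) (h : n + 1 = m) : (next K i).d n m =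
    g K i (n - 1) n m ≫ eqToHom (show C K i n m = C K i (m - 1) m by rw [show m - 1 = n by omega]) :=
  dif_pos h

@[reassoc]
theorem inl_q_cast {b b' c : ℤ} (h : b = b') :
    biprod.inl ≫ q K i b c ≫ eqToHom (show C K i b c = C K i b' c by rw [h]) =
      eqToHom (by rw [h]) ≫ biprod.inl ≫ q K i b' c := by
  subst h
  simp

/-- The comparison map. -/
noncomputable def ψ : K ⟶ next K i where
  f n := i n ≫ biprod.inr ≫ q K i (n - 1) n
  comm' n m (h : n + 1 = m) := by
    obtain rfl : n = m - 1 := by omega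
    rw [next_d K i _ _ h, Category.assoc, Category.assoc, q_g_assoc, biprod.inr_snd_assoc,
      eqToHom_refl, Category.comp_id]
    have h1 : f K i (m - 1) m = i (m - 1) ≫ biprod.inl - K.d (m - 1) m ≫ i m ≫ biprod.inr := by
      apply biprod.hom_ext <;> simp [f]
    have h2 := f_q K i (m - 1) m
    rw [h1, Preadditive.sub_comp, sub_eq_zero, Category.assoc, Category.assoc, Category.assoc] at h2
    exact h2

variable [∀ n, Mono (i n)]

instance (a b : ℤ) : Mono (f K i a b) := mono_of_mono_fac (biprod.lift_fst (i a) (-(K.d a b ≫ i b)))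

theorem exact_f_q (a b : ℤ) : (ShortComplex.mk (f K i a b) (q K i a b) (f_q K i a b)).ShortExact :=
  ShortComplex.ShortExact.mk' (ShortComplex.exact_cokernel _) inferInstance
    (inferInstanceAs (Epi (q K i a b)))

omit [∀ n, Mono (i n)] in
theorem ψ_f_eq (b c : ℤ) (h : b + 1 = c) :
    (ψ K i).f c = i c ≫ biprod.inr ≫ q K i b c ≫
      eqToHom (show C K i b c = C K i (c - 1) c by rw [show c - 1 = b by omega]) := by
  obtain rfl : b = c - 1 := by omega
  simp [ψ]

omit [∀ n, Mono (i n)] in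
theorem next_d_eq (a b c : ℤ) (hab : a + 1 = b) (hbc : b + 1 = c) :
    (next K i).d b c = eqToHom (show C K i (b - 1) b = C K i a b by rw [show b - 1 = a by omega]) ≫
      g K i a b c ≫ eqToHom (show C K i b c = C K i (c - 1) c by rw [show c - 1 = b by omega]) := by
  rw [next_d K i b c hbc]
  obtain rfl : a = b - 1 := by omega
  simp

theorem chase {a' a b c : ℤ} {W : A} (u : W ⟶ K.X c) (l : W ⟶ C K i a b)
    (hl : u ≫ i c ≫ biprod.inr ≫ q K i b c + l ≫ g K i a b c = 0) :
    ∃ (W' : A) (π : W' ⟶ W) (_ : Epi π) (y : W' ⟶ K.X b) (v : W' ⟶ C K i a' a),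
      y ≫ K.d b c = -(π ≫ u) ∧
      y ≫ i b ≫ biprod.inr ≫ q K i a b + v ≫ g K i a' a b = π ≫ l := by
  obtain ⟨W₁, π, hπ, t, ht⟩ := surjective_up_to_refinements_of_epi (q K i a b) l
  have hzero : biprod.lift (t ≫ biprod.snd) (π ≫ u ≫ i c) ≫ q K i b c = 0 := by
    have h2 : π ≫ (u ≫ i c ≫ biprod.inr ≫ q K i b c + l ≫ g K i a b c) = 0 := by
      rw [hl, comp_zero]
    rw [Preadditive.comp_add, reassoc_of% ht, q_g, add_comm] at h2
    simpa [biprod.lift_eq, Preadditive.add_comp] using h2
  obtain ⟨W₂, π', hπ', y, hy⟩ := (exact_f_q K i b c).exact.exact_up_to_refinements _ hzero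
  change W₂ ⟶ K.X b at y
  change π' ≫ _ = y ≫ f K i b c at hy
  have hy1 := congrArg (fun s => s ≫ biprod.fst) hy
  have hy2 := congrArg (fun s => s ≫ biprod.snd) hy
  simp only [f, Category.assoc, biprod.lift_fst, biprod.lift_snd, Preadditive.comp_neg] at hy1 hy2
  refine ⟨W₂, π' ≫ π, inferInstance, y, (π' ≫ t ≫ biprod.fst) ≫ biprod.inr ≫ q K i a' a, ?_, ?_⟩
  · rw [← cancel_mono (i c)]
    simp [hy2]
  · simp only [Category.assoc, q_g, biprod.inr_snd_assoc]
    rw [ht, ← reassoc_of% hy1, ← Preadditive.comp_add]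
    congr 1
    have htot : t = t ≫ biprod.fst ≫ biprod.inl + t ≫ biprod.snd ≫ biprod.inr := by
      rw [← Preadditive.comp_add, biprod.total, Category.comp_id]
    conv_rhs => rw [htot]
    simp [Preadditive.add_comp, add_comm]

theorem quasiIso_ψ : QuasiIso (ψ K i) := by
  rw [TotalQis.quasiIso_iff_acyclic_mappingCone]
  intro n
  obtain ⟨m, rfl⟩ : ∃ m, n = m + 1 := ⟨n - 1, by omega⟩
  rw [exactAt_iff' _ m (m + 1) (m + 1 + 1) (by simp) (by simp),
    ShortComplex.exact_iff_exact_up_to_refinements]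
  intro W x hx
  change W ⟶ (CochainComplex.mappingCone (ψ K i)).X (m + 1) at x
  change x ≫ (CochainComplex.mappingCone (ψ K i)).d (m + 1) (m + 1 + 1) = 0 at hx
  let u := x ≫ (CochainComplex.mappingCone.fst (ψ K i)).1.v (m + 1) (m + 1 + 1) rfl
  let l : W ⟶ C K i m (m + 1) := x ≫ (CochainComplex.mappingCone.snd (ψ K i)).v (m + 1) (m + 1) (add_zero _) ≫
    eqToHom (show C K i (m + 1 - 1) (m + 1) = C K i m (m + 1) by rw [show m + 1 - 1 = m by omega])
  have hl : u ≫ i (m + 1 + 1) ≫ biprod.inr ≫ q K i (m + 1) (m + 1 + 1) +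
      l ≫ g K i m (m + 1) (m + 1 + 1) = 0 := by
    have h := congrArg (fun t => t ≫ (CochainComplex.mappingCone.snd (ψ K i)).v (m + 1 + 1) (m + 1 + 1) (add_zero _)) hx
    simp [CochainComplex.mappingCone.d_snd_v (ψ K i) (m + 1) (m + 1 + 1) rfl] at h
    rw [ψ_f_eq K i (m + 1) (m + 1 + 1) rfl, next_d_eq K i m (m + 1) (m + 1 + 1) rfl rfl] at h
    rw [← cancel_mono (eqToHom (show C K i (m + 1) (m + 1 + 1) = C K i (m + 1 + 1 - 1) (m + 1 + 1) by
      rw [show m + 1 + 1 - 1 = m + 1 by omega])), zero_comp]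
    simp only [u, l, Preadditive.add_comp, Category.assoc]
    exact h
  obtain ⟨W', π, hπ, y, v, hy, hv⟩ := chase K i (a' := m - 1) u l hl
  refine ⟨W', π, hπ, y ≫ (CochainComplex.mappingCone.inl (ψ K i)).v (m + 1) m (by omega) +
    v ≫ (CochainComplex.mappingCone.inr (ψ K i)).f m, ?_⟩
  change π ≫ x = _ ≫ (CochainComplex.mappingCone (ψ K i)).d m (m + 1)
  apply CochainComplex.mappingCone.ext_to (ψ K i) (m + 1) (m + 1 + 1) rfl
  · simp [Preadditive.add_comp, CochainComplex.mappingCone.d_fst_v (ψ K i) m (m + 1) (m + 1 + 1) rfl rfl]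
    rw [hy, neg_neg]
  · rw [← cancel_mono (eqToHom (show C K i (m + 1 - 1) (m + 1) = C K i m (m + 1) by
      rw [show m + 1 - 1 = m by omega]))]
    simp [Preadditive.add_comp, CochainComplex.mappingCone.d_snd_v (ψ K i) m (m + 1) rfl]
    rw [ψ_f_eq K i m (m + 1) rfl, next_d_eq K i (m - 1) m (m + 1) (by omega) rfl]
    simp only [Category.assoc, eqToHom_trans, eqToHom_refl, Category.comp_id]
    erw [Category.id_comp]
    exact hv.symm

omit [∀ n, Mono (i n)] in
theorem isIso_inr_q (a b : ℤ) [IsIso (i a)] : IsIso (biprod.inr ≫ q K i a b) := by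
  refine ⟨cokernel.desc _ (biprod.desc (inv (i a) ≫ K.d a b ≫ i b) (𝟙 _)) (by simp [f]), ?_, ?_⟩
  · simp [q]
  · refine (cancel_epi (cokernel.π (f K i a b))).1 ?_
    rw [cokernel.π_desc_assoc]
    erw [Category.comp_id]
    apply biprod.hom_ext'
    · simp only [biprod.inl_desc_assoc, Category.assoc]
      rw [IsIso.inv_comp_eq]
      have h1 : f K i a b = i a ≫ biprod.inl - K.d a b ≫ i b ≫ biprod.inr := by
        apply biprod.hom_ext <;> simp [f]
      have h2 := f_q K i a b
      rw [h1, Preadditive.sub_comp, sub_eq_zero, Category.assoc, Category.assoc, Category.assoc] at h2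
      exact h2.symm
    · simp [q]

omit [∀ n, Mono (i n)] in
theorem isIso_ψ_f (n : ℤ) [IsIso (i (n - 1))] [IsIso (i n)] : IsIso ((ψ K i).f n) := by
  haveI := isIso_inr_q K i (n - 1) n
  exact inferInstanceAs (IsIso (i n ≫ biprod.inr ≫ q K i (n - 1) n))

end Groth.Agent.DimShift
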